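import Cfsg.Agent.H501.GLn.Lambda
import Cfsg.Agent.H614.GLn.Labels
set_option linter.all false

/-!
# Exterior powers of the Brauer lift

`eB θ x k p` is the `k`-th elementary symmetric function of the numbers `θ (α)^x`, `α` a root of `p`.
-/

set_option autoImplicit false

open Polynomial Cfsg

namespace Cfsg.Agent.H501.GLn

open Cfsg.Agent.H139.Cusp Cfsg.Agent.H614.GLn

universe u w

section

variable {F : Type u} [Field F] {K : Type w} [Field K] [Algebra F K] (θ : K →*₀ ℂ)

/-- the multiset of the `θ (α)^x` -/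
noncomputable def tm (x : ℕ) (p : F[X]) : Multiset ℂ := (p.map (algebraMap F K)).roots.map fun y => θ y ^ x

open Classical in
/-- the elementary symmetric functions of the `θ (α)^x` -/
noncomputable def eB (x k : ℕ) (p : F[X]) : ℂ := if p.coeff 0 = 0 then 0 else (tm θ x p).esymm k

open Classical in
/-- the product of the `1 + z θ (α)^x` -/
noncomputable def pB (x : ℕ) (z : ℂ) (p : F[X]) : ℂ :=
  if p.coeff 0 = 0 then 0 else ((tm θ x p).map fun y => 1 + z * y).prod

theorem tm_mul (x : ℕ) {p q : F[X]} (hp : p.Monic) (hq : q.Monic) : tm θ x (p * q) = tm θ x p + tm θ x q := by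
  rw [tm, Polynomial.map_mul, roots_mul (mul_ne_zero (hp.map _).ne_zero (hq.map _).ne_zero),
    Multiset.map_add]
  rfl

theorem tm_one (x : ℕ) : tm θ x (1 : F[X]) = 0 := by
  rw [tm, Polynomial.map_one, roots_one]
  rfl

theorem card_tm (x : ℕ) {p : F[X]} (hs : (p.map (algebraMap F K)).Splits) :
    Multiset.card (tm θ x p) = p.natDegree := by
  rw [tm, Multiset.card_map, ← natDegree_map (algebraMap F K)]
  exact hs.natDegree_eq_card_roots.symm

theorem card_tm_le (x : ℕ) (p : F[X]) : Multiset.card (tm θ x p) ≤ p.natDegree := by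
  rw [tm, Multiset.card_map, ← natDegree_map (algebraMap F K)]
  exact card_roots' _

theorem esymm_of_card_lt {s : Multiset ℂ} {k : ℕ} (h : Multiset.card s < k) : s.esymm k = 0 := by
  rw [Multiset.esymm, Multiset.powersetCard_eq_empty _ h]
  rfl

theorem prod_one_add (s : Multiset ℂ) (z : ℂ) {m : ℕ} (h : Multiset.card s ≤ m) :
    (s.map fun y => 1 + z * y).prod = ∑ k ∈ Finset.range (m + 1), z ^ k * s.esymm k := by
  induction s using Multiset.induction_on generalizing m with
  | empty =>
    rw [Multiset.map_zero, Multiset.prod_zero, Finset.sum_eq_single 0]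
    · rw [pow_zero, esymm_zero', mul_one]
    · intro k _ hk
      rw [esymm_of_card_lt, mul_zero]
      rw [Multiset.card_zero]
      omega
    · intro h
      exact absurd (Finset.mem_range.2 (Nat.succ_pos m)) h
  | cons a s ih =>
    rw [Multiset.card_cons] at h
    obtain ⟨m, rfl⟩ := Nat.exists_eq_succ_of_ne_zero (n := m) (by omega)
    rw [Multiset.map_cons, Multiset.prod_cons, ih (m := m) (by omega)]
    conv_rhs => rw [Finset.sum_range_succ', pow_zero, esymm_zero', one_mul]
    have h1 : ∀ k ∈ Finset.range (m + 1), z ^ (k + 1) * (a ::ₘ s).esymm (k + 1) =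
        z ^ (k + 1) * s.esymm (k + 1) + z * a * (z ^ k * s.esymm k) := by
      intro k _
      rw [esymm_cons]
      ring
    rw [Finset.sum_congr rfl h1, Finset.sum_add_distrib, ← Finset.mul_sum, add_mul, one_mul]
    have h2 : ∑ k ∈ Finset.range (m + 1), z ^ k * s.esymm k =
        ∑ k ∈ Finset.range (m + 1), z ^ (k + 1) * s.esymm (k + 1) + 1 := by
      have h3 := Finset.sum_range_succ' (fun k => z ^ k * s.esymm k) (m + 1)
      rw [Finset.sum_range_succ, esymm_of_card_lt (s := s) (k := m + 1) (by omega), mul_zero, add_zero,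
        pow_zero, esymm_zero', one_mul] at h3
      rw [h3]
    rw [h2]
    ring

/-- the generating function in `z` -/
theorem pB_eq (x : ℕ) (z : ℂ) (p : F[X]) {m : ℕ} (hm : p.natDegree ≤ m) :
    pB θ x z p = ∑ k ∈ Finset.range (m + 1), z ^ k * eB θ x k p := by
  by_cases h : p.coeff 0 = 0
  · rw [pB, if_pos h]
    symm
    refine Finset.sum_eq_zero fun k _ => ?_
    rw [eB, if_pos h, mul_zero]
  · rw [pB, if_neg h, prod_one_add _ z ((card_tm_le θ x p).trans hm)]
    refine Finset.sum_congr rfl fun k _ => ?_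
    rw [eB, if_neg h]

theorem eB_of_lt (x : ℕ) {k : ℕ} {p : F[X]} (hk : p.natDegree < k) : eB θ x k p = 0 := by
  rw [eB]
  split_ifs
  · rfl
  · exact esymm_of_card_lt ((card_tm_le θ x p).trans_lt hk)

theorem eB_of_not_isUnit (x k : ℕ) {p : F[X]} (h : p.coeff 0 = 0) : eB θ x k p = 0 := if_pos h

open Classical in
theorem eB_zero (x : ℕ) (p : F[X]) : eB θ x 0 p = if p.coeff 0 = 0 then 0 else 1 := by
  rw [eB, esymm_zero']

theorem pB_mlt (x : ℕ) (z : ℂ) : Mlt (F := F) (pB θ x z) := by
  constructor
  · rw [pB, if_neg (by simp), tm_one]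
    simp
  · intro p q hp hq
    rw [pB, pB, pB, mul_coeff_zero, tm_mul θ x hp hq, Multiset.map_add, Multiset.prod_add]
    by_cases h1 : p.coeff 0 = 0
    · rw [if_pos h1, if_pos (by rw [h1, zero_mul]), zero_mul]
    · by_cases h2 : q.coeff 0 = 0
      · rw [if_pos h2, if_pos (by rw [h2, mul_zero]), mul_zero]
      · rw [if_neg h1, if_neg h2, if_neg (mul_ne_zero h1 h2)]

/-- **G5**: the exterior powers of (powers of) the Brauer lift are generalized characters -/
theorem eB_generalized {N M : ℕ} (C : Ctx F θ N M) (x k : ℕ) (V : Type u) [AddCommGroup V] [Module F V]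
    [Finite V] (hV : Module.finrank F V ≤ N) :
    IsGeneralizedCharacter (V →ₗ[F] V)ˣ (fun g => eB θ x k (LinearMap.charpoly (g : V →ₗ[F] V))) := by
  have : Finite (V →ₗ[F] V) := DFunLike.finite _
  have : Finite (V →ₗ[F] V)ˣ := inferInstance
  classical
  have hc0 : ∀ g : (V →ₗ[F] V)ˣ, (LinearMap.charpoly (g : V →ₗ[F] V)).coeff 0 ≠ 0 := by
    intro g h
    have h1 := LinearMap.det_eq_sign_charpoly_coeff (g : V →ₗ[F] V)
    rw [h, mul_zero] at h1
    exact ((LinearMap.isUnit_iff_isUnit_det _).1 g.isUnit).ne_zero h1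
  have hspl : ∀ g : (V →ₗ[F] V)ˣ, ((LinearMap.charpoly (g : V →ₗ[F] V)).map (algebraMap F K)).Splits := fun g =>
    C.spl _ (LinearMap.charpoly_monic _) (by rw [LinearMap.charpoly_natDegree]; exact hV)
  have heq : ∀ g : (V →ₗ[F] V)ˣ, eB θ x k (LinearMap.charpoly (g : V →ₗ[F] V)) =
      (tm θ x (LinearMap.charpoly (g : V →ₗ[F] V))).esymm k := fun g => if_neg (hc0 g)
  rcases Nat.eq_zero_or_pos x with rfl | hx
  · refine isGeneralizedCharacter_congr (esymm_generalized (G := (V →ₗ[F] V)ˣ)
      (χ := fun _ => ((Module.finrank F V : ℕ) : ℂ)) ?_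
      (fun g => tm θ 0 (LinearMap.charpoly (g : V →ₗ[F] V))) (fun g i _ => ?_) k) fun g => heq g
    · have h1 := Characters.Core.isCharacter_nsmul (G := (V →ₗ[F] V)ˣ) (Module.finrank F V)
        Characters.Core.isCharacter_one
      refine isGeneralizedCharacter_congr (Characters.Brauer.isGeneralizedCharacter_of_isCharacter h1) fun g => ?_
      simp
    · rw [ps, tm, Multiset.map_map]
      simp only [Function.comp_apply, pow_zero, one_pow]
      rw [Multiset.map_const', Multiset.sum_replicate, nsmul_eq_mul, mul_one,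
        ← (hspl g).natDegree_eq_card_roots, natDegree_map, LinearMap.charpoly_natDegree]
  · refine isGeneralizedCharacter_congr (esymm_generalized (lb_generalized_pow K θ C.inj C.spl hx.ne' V hV)
      (fun g => tm θ x (LinearMap.charpoly (g : V →ₗ[F] V))) (fun g i hi => ?_) k) fun g => heq g
    have h1 := lb_pow_eq K (powTheta θ x hx.ne') (g : V →ₗ[F] V) (hspl g) (a := i) (by omega)
    rw [Units.val_pow_eq_pow_val, ← h1, lb, ps, tm, Multiset.map_map]
    congr 1

theorem isVC_eB {N M : ℕ} (C : Ctx F θ N M) (x k : ℕ) {n : ℕ} (hn : n ≤ N) :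
    IsVC (comp n (grp (eB (F := F) θ x k))) := by
  intro V _ _ _
  by_cases hV : Module.finrank F V = n
  · refine isGeneralizedCharacter_congr (eB_generalized θ C x k V (hV.trans_le hn)) fun g => ?_
    rw [comp_fn, if_pos hV, grp_fn]
  · refine isGeneralizedCharacter_congr Characters.Brauer.isGeneralizedCharacter_zero fun g => ?_
    rw [comp_fn, if_neg hV]
    rfl

end

end Cfsg.Agent.H501.GLn
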