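import Cfsg.Agent.H501.GLn.Newton
import Cfsg.Agent.H139.Cusp.Adams
import Cfsg.Agent.H139.Cusp.Orth
import Mathlib.LinearAlgebra.Eigenspace.Semisimple
import Mathlib.GroupTheory.Perm.Sign
set_option linter.all false

/-!
# Exterior powers of generalized characters

If `c g` is a multiset of complex numbers whose power sums are `χ (g ^ i)` for a generalized
character `χ`, then the elementary symmetric functions of `c g` are generalized characters.
-/

set_option autoImplicit false

open Finset Cfsg
open scoped ComplexConjugate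

namespace Cfsg.Agent.H501.GLn

open Cfsg.Agent.H139.Cusp

/-! ### diagonalization -/

theorem exists_eigenbasis {n : ℕ} (T : Module.End ℂ (Fin n → ℂ)) {m : ℕ} (hm : m ≠ 0) (hT : T ^ m = 1) :
    ∃ (b : Module.Basis (Fin n) ℂ (Fin n → ℂ)) (a : Fin n → ℂ), ∀ i, T (b i) = a i • b i := by
  classical
  have hss : T.IsSemisimple := by
    refine Module.End.isSemisimple_of_squarefree_aeval_eq_zero (p := Polynomial.X ^ m - Polynomial.C 1) ?_ ?_
    · exact (Polynomial.separable_X_pow_sub_C (n := m) (1 : ℂ) (Nat.cast_ne_zero.2 hm) one_ne_zero).squarefree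
    · simp [hT]
  have htop : ⨆ μ, T.eigenspace μ = ⊤ := hss.iSup_eigenspace_eq_top
  have hint : DirectSum.IsInternal T.eigenspace :=
    DirectSum.isInternal_submodule_of_iSupIndep_of_iSup_eq_top T.eigenspaces_iSupIndep htop
  let b0 := hint.collectedBasis fun μ => Module.finBasis ℂ (T.eigenspace μ)
  have hb0 : ∀ i, ∃ μ, T (b0 i) = μ • b0 i := fun i =>
    ⟨i.1, Module.End.mem_eigenspace_iff.1 (hint.collectedBasis_mem _ i)⟩
  have hfin : Finite (Σ μ, Fin (Module.finrank ℂ (T.eigenspace μ))) := Module.Finite.finite_basis b0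
  have : Fintype (Σ μ, Fin (Module.finrank ℂ (T.eigenspace μ))) := Fintype.ofFinite _
  have hcard : Fintype.card (Σ μ, Fin (Module.finrank ℂ (T.eigenspace μ))) = n := by
    rw [← Module.finrank_eq_card_basis b0]
    simp
  let e := Fintype.equivFinOfCardEq hcard
  choose a ha using hb0
  refine ⟨b0.reindex e, fun i => a (e.symm i), fun i => ?_⟩
  rw [Module.Basis.reindex_apply]
  exact ha _

theorem exists_diag {n : ℕ} (A : Matrix (Fin n) (Fin n) ℂ) {m : ℕ} (hm : m ≠ 0) (hA : A ^ m = 1) :
    ∃ (P Q : Matrix (Fin n) (Fin n) ℂ) (a : Fin n → ℂ), P * Q = 1 ∧ Q * P = 1 ∧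
      A = P * Matrix.diagonal a * Q := by
  obtain ⟨b, a, hb⟩ := exists_eigenbasis (Matrix.toLin' A) hm (by
    rw [← Matrix.toLin'_pow, hA, Matrix.toLin'_one]
    rfl)
  let P : Matrix (Fin n) (Fin n) ℂ := (Pi.basisFun ℂ (Fin n)).toMatrix b
  let Q : Matrix (Fin n) (Fin n) ℂ := b.toMatrix (Pi.basisFun ℂ (Fin n))
  have hPQ : P * Q = 1 := Module.Basis.toMatrix_mul_toMatrix_flip _ _
  have hQP : Q * P = 1 := Module.Basis.toMatrix_mul_toMatrix_flip _ _
  have hP : A * P = P * Matrix.diagonal a := by
    ext i j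
    rw [Matrix.mul_diagonal, Matrix.mul_apply]
    have h1 := congrFun (hb j) i
    rw [Matrix.toLin'_apply, Pi.smul_apply, smul_eq_mul] at h1
    rw [mul_comm (P i j)]
    exact h1
  refine ⟨P, Q, a, hPQ, hQP, ?_⟩
  rw [← hP, mul_assoc, hPQ, mul_one]

/-! ### the alternating sum -/

section

variable {n k : ℕ}

theorem trace_conj_tpow (P Q D : Matrix (Fin n) (Fin n) ℂ) (hQP : Q * P = 1) (σ : Equiv.Perm (Fin k)) :
    (tpow (Fin k) (P * D * Q) * pmat ℂ (Fin n) σ).trace = (tpow (Fin k) D * pmat ℂ (Fin n) σ).trace := by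
  rw [tpow_mul, tpow_mul, mul_assoc, ← pmat_comm, mul_assoc, Matrix.trace_mul_comm, mul_assoc, mul_assoc,
    ← tpow_mul, hQP, tpow_one, mul_one]

theorem trace_diag_tpow (a : Fin n → ℂ) (σ : Equiv.Perm (Fin k)) :
    (tpow (Fin k) (Matrix.diagonal a) * pmat ℂ (Fin n) σ).trace =
      ∑ x : Fin k → Fin n, if x ∘ σ = x then ∏ i, a (x i) else 0 := by
  rw [trace_tpow_pmat]
  refine Finset.sum_congr rfl fun x _ => ?_
  split_ifs with h
  · refine Finset.prod_congr rfl fun i _ => ?_
    have h1 : x (σ i) = x i := congrFun h i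
    rw [h1, Matrix.diagonal_apply_eq]
  · obtain ⟨i, hi⟩ := Function.ne_iff.1 h
    exact Finset.prod_eq_zero (Finset.mem_univ i) (Matrix.diagonal_apply_ne _ hi)

theorem sum_sign (x : Fin k → Fin n) : ∑ σ : Equiv.Perm (Fin k), (if x ∘ σ = x then
    ((Equiv.Perm.sign σ : ℤ) : ℂ) else 0) = if Function.Injective x then 1 else 0 := by
  classical
  split_ifs with h
  · rw [Finset.sum_eq_single 1]
    · have h1 : x ∘ ⇑(1 : Equiv.Perm (Fin k)) = x := rfl
      rw [if_pos h1, Equiv.Perm.sign_one]
      simp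
    · intro σ _ hσ
      rw [if_neg]
      intro h1
      apply hσ
      ext i
      exact congrArg Fin.val (h (congrFun h1 i))
    · intro h
      exact absurd (Finset.mem_univ _) h
  · rw [Function.not_injective_iff] at h
    obtain ⟨i, j, hij, hne⟩ := h
    refine Finset.sum_involution (fun σ _ => σ * Equiv.swap i j) ?_ ?_ ?_ ?_
    · intro σ _
      have h1 : x ∘ ⇑(σ * Equiv.swap i j) = x ↔ x ∘ σ = x := by
        have h2 : x ∘ Equiv.swap i j = x := by
          funext l
          show x (Equiv.swap i j l) = x l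
          rw [Equiv.swap_apply_def]
          split_ifs with h3 h4
          · rw [h3, hij]
          · rw [h4, hij]
          · rfl
        have h3 : x ∘ ⇑(σ * Equiv.swap i j) = (x ∘ σ) ∘ Equiv.swap i j := rfl
        rw [h3]
        constructor
        · intro h4
          have h5 : ((x ∘ σ) ∘ Equiv.swap i j) ∘ Equiv.swap i j = x ∘ Equiv.swap i j := by rw [h4]
          rw [h2, Function.comp_assoc] at h5
          have h6 : ⇑(Equiv.swap i j) ∘ ⇑(Equiv.swap i j) = id := by
            funext l
            simp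
          rwa [h6, Function.comp_id] at h5
        · intro h4
          rw [h4, h2]
      rw [if_congr h1 rfl rfl]
      split_ifs
      · rw [Equiv.Perm.sign_mul, Equiv.Perm.sign_swap hne]
        simp
      · simp
    · intro σ _ _ h1
      have h2 : Equiv.swap i j = 1 := by
        rw [← mul_left_cancel_iff (a := σ), mul_one]
        exact h1
      exact hne (Equiv.swap_eq_one_iff.1 h2)
    · intro σ _
      exact Finset.mem_univ _
    · intro σ _
      simp [mul_assoc]

theorem sum_inj (a : Fin n → ℂ) : (∑ x : Fin k → Fin n, if Function.Injective x then ∏ i, a (x i) else 0) =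
    (k.factorial : ℂ) * (Finset.univ.val.map a).esymm k := by
  classical
  rw [← Finset.sum_filter]
  have h1 : (Finset.univ.val.map a).esymm k = ∑ S ∈ Finset.powersetCard k (Finset.univ : Finset (Fin n)),
      ∏ i ∈ S, a i := Finset.esymm_map_val a Finset.univ k
  rw [h1, Finset.mul_sum]
  rw [← Finset.sum_fiberwise_of_maps_to (s := Finset.univ.filter fun x : Fin k → Fin n => Function.Injective x)
    (t := Finset.powersetCard k (Finset.univ : Finset (Fin n))) (g := fun x => Finset.univ.image x)]
  · refine Finset.sum_congr rfl fun S hS => ?_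
    rw [Finset.mem_powersetCard] at hS
    have h2 : ∀ x ∈ (Finset.univ.filter fun x : Fin k → Fin n => Function.Injective x).filter
        (fun x => Finset.univ.image x = S), ∏ i, a (x i) = ∏ i ∈ S, a i := by
      intro x hx
      rw [Finset.mem_filter, Finset.mem_filter] at hx
      rw [← hx.2, Finset.prod_image fun i _ j _ h => hx.1.2 h]
    rw [Finset.sum_congr rfl h2, Finset.sum_const, nsmul_eq_mul]
    congr 2
    have h3 : Fintype.card (Fin k ↪ S) = k.factorial := by
      rw [Fintype.card_embedding_eq, Fintype.card_coe, hS.2, Fintype.card_fin, Nat.descFactorial_self]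
    rw [← h3, ← Finset.card_univ]
    refine (Finset.card_bij' (s := Finset.univ) (fun (f : Fin k ↪ S) _ => fun i => (f i : Fin n))
      (fun x hx => ⟨fun i => ⟨x i, ?_⟩, ?_⟩) ?_ ?_ ?_ ?_).symm
    · rw [Finset.mem_filter, Finset.mem_filter] at hx
      rw [← hx.2]
      exact Finset.mem_image_of_mem _ (Finset.mem_univ _)
    · rw [Finset.mem_filter, Finset.mem_filter] at hx
      intro i j hij
      exact hx.1.2 (congrArg Subtype.val hij)
    · intro f _
      rw [Finset.mem_filter, Finset.mem_filter]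
      refine ⟨⟨Finset.mem_univ _, fun i j hij => f.injective (Subtype.ext hij)⟩, ?_⟩
      apply Finset.eq_of_subset_of_card_le
      · intro y hy
        obtain ⟨i, -, rfl⟩ := Finset.mem_image.1 hy
        exact (f i).2
      · rw [Finset.card_image_of_injective _ (fun i j hij => f.injective (Subtype.ext hij)), hS.2,
          Finset.card_univ, Fintype.card_fin]
    · intro x hx
      rw [Finset.mem_filter, Finset.mem_filter] at hx
      exact Finset.mem_univ _
    · intro f _
      rfl
    · intro x _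
      rfl
  · intro x hx
    rw [Finset.mem_filter] at hx
    rw [Finset.mem_powersetCard]
    exact ⟨Finset.subset_univ _, by rw [Finset.card_image_of_injective _ hx.2, Finset.card_univ, Fintype.card_fin]⟩

end

/-- **exterior powers of characters** -/
theorem exists_eig {G : Type*} [Group G] [Finite G] {χ : G → ℂ} (hχ : IsCharacter G χ) :
    ∃ s : G → Multiset ℂ, (∀ g i, χ (g ^ i) = ps (s g) i) ∧ ∀ k, IsCharacter G (fun g => (s g).esymm k) := by
  classical
  obtain ⟨n, ρ, rfl⟩ := hχ
  let M : G →* Matrix (Fin n) (Fin n) ℂ :=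
    ((LinearMap.toMatrixAlgEquiv' : ((Fin n → ℂ) →ₗ[ℂ] (Fin n → ℂ)) ≃ₐ[ℂ] Matrix (Fin n) (Fin n) ℂ) :
      ((Fin n → ℂ) →ₗ[ℂ] (Fin n → ℂ)) →* Matrix (Fin n) (Fin n) ℂ).comp ρ
  have hM : ∀ g, (M g).trace = ρ.character g := by
    intro g
    show (LinearMap.toMatrix' (ρ g)).trace = LinearMap.trace ℂ (Fin n → ℂ) (ρ g)
    rw [← Matrix.trace_toLin'_eq, Matrix.toLin'_toMatrix']
  have hd : ∀ g, ∃ (P Q : Matrix (Fin n) (Fin n) ℂ) (a : Fin n → ℂ), P * Q = 1 ∧ Q * P = 1 ∧
      M g = P * Matrix.diagonal a * Q := fun g =>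
    exists_diag (M g) (m := Nat.card G) Nat.card_pos.ne' (by rw [← map_pow, pow_card_eq_one', map_one])
  choose P Q a hPQ hQP hA using hd
  refine ⟨fun g => Finset.univ.val.map (a g), ?_, ?_⟩
  · intro g i
    have h1 : ∀ i : ℕ, M g ^ i = P g * Matrix.diagonal (a g) ^ i * Q g := by
      intro i
      induction i with
      | zero => rw [pow_zero, pow_zero, mul_one, hPQ]
      | succ i ih =>
        rw [pow_succ, ih, hA g, pow_succ]
        simp only [mul_assoc]
        rw [← mul_assoc (Q g) (P g), hQP, one_mul]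
    rw [← hM, map_pow, h1, Matrix.trace_mul_comm, ← mul_assoc, hQP, one_mul, Matrix.diagonal_pow, Matrix.trace,
      ps, Multiset.map_map]
    refine Finset.sum_congr rfl fun j _ => ?_
    rw [Matrix.diag_apply, Matrix.diagonal_apply_eq]
    rfl
  · intro k
    let f : G × Equiv.Perm (Fin k) →* Matrix (Fin k → Fin n) (Fin k → Fin n) ℂ :=
      { toFun := fun x => tpow (Fin k) (M x.1) * pmat ℂ (Fin n) x.2
        map_one' := by
          rw [Prod.snd_one, pmat_one, mul_one, Prod.fst_one, map_one, tpow_one]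
        map_mul' := fun x y => by
          rw [Prod.snd_mul, pmat_mul, Prod.fst_mul, map_mul, tpow_mul, mul_assoc, mul_assoc]
          congr 1
          rw [← mul_assoc, ← pmat_comm, mul_assoc] }
    let ρ' : Representation ℂ (G × Equiv.Perm (Fin k)) ((Fin k → Fin n) → ℂ) :=
      ((Matrix.toLinAlgEquiv' : Matrix (Fin k → Fin n) (Fin k → Fin n) ℂ ≃ₐ[ℂ] _) :
        Matrix (Fin k → Fin n) (Fin k → Fin n) ℂ →* _).comp f
    have hch : ∀ g σ, ρ'.character (g, σ) = (tpow (Fin k) (M g) * pmat ℂ (Fin n) σ).trace := fun g σ =>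
      Matrix.trace_toLin'_eq _
    let sg : Equiv.Perm (Fin k) →* ℂ :=
      ((Int.castRingHom ℂ : ℤ →+* ℂ) : ℤ →* ℂ).comp ((Units.coeHom ℤ).comp Equiv.Perm.sign)
    have hsg : IsCharacter (Equiv.Perm (Fin k)) (fun σ => sg σ) := Characters.Brauer.isCharacter_of_monoidHom sg
    have h2 := slice_isCharacter (Characters.Core.isCharacter_of_rep ρ') hsg
    refine (?_ : (fun g => (Finset.univ.val.map (a g)).esymm k) = _) ▸ h2
    funext g
    have hk : (Nat.card (Equiv.Perm (Fin k)) : ℂ) = (k.factorial : ℂ) := by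
      rw [Nat.card_eq_fintype_card, Fintype.card_perm, Fintype.card_fin]
    rw [hk, eq_comm, inv_mul_eq_iff_eq_mul₀ (Nat.cast_ne_zero.2 (Nat.factorial_ne_zero k)), ← sum_inj]
    have h3 : ∀ σ : Equiv.Perm (Fin k), ρ'.character (g, σ) * conj (sg σ) =
        ∑ x : Fin k → Fin n, (∏ i, a g (x i)) * (if x ∘ σ = x then ((Equiv.Perm.sign σ : ℤ) : ℂ) else 0) := by
      intro σ
      rw [hch, hA g, trace_conj_tpow _ _ _ (hQP g), trace_diag_tpow, Finset.sum_mul]
      refine Finset.sum_congr rfl fun x _ => ?_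
      have h4 : conj (sg σ) = ((Equiv.Perm.sign σ : ℤ) : ℂ) := by
        show conj (((Equiv.Perm.sign σ : ℤ) : ℂ)) = _
        rw [map_intCast]
      rw [h4]
      split_ifs <;> simp
    rw [Finset.sum_congr rfl fun σ _ => h3 σ, Finset.sum_comm]
    refine Finset.sum_congr rfl fun x _ => ?_
    rw [← Finset.mul_sum, sum_sign]
    split_ifs <;> simp

/-- **exterior powers of generalized characters** -/
theorem esymm_generalized {G : Type*} [Group G] [Finite G] {χ : G → ℂ} (hχ : IsGeneralizedCharacter G χ)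
    (c : G → Multiset ℂ) (hc : ∀ g i, 1 ≤ i → χ (g ^ i) = ps (c g) i) (k : ℕ) :
    IsGeneralizedCharacter G (fun g => (c g).esymm k) := by
  classical
  obtain ⟨α, β, hα, hβ, rfl⟩ := hχ
  obtain ⟨s, hs, hs'⟩ := exists_eig hα
  obtain ⟨t, ht, ht'⟩ := exists_eig hβ
  have key : ∀ g k, (s g).esymm k = ∑ a ∈ antidiagonal k, (t g).esymm a.1 * (c g).esymm a.2 := by
    intro g k
    rw [← esymm_add]
    refine esymm_eq_of_ps (fun i hi => ?_) k
    rw [ps_add, ← ht, ← hs, ← hc g i hi]
    show α (g ^ i) = β (g ^ i) + (α (g ^ i) - β (g ^ i))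
    ring
  induction k using Nat.strong_induction_on with
  | _ k ih =>
    have h1 : (fun g => (c g).esymm k) = fun g => (s g).esymm k -
        ∑ a ∈ antidiagonal k with a ≠ (0, k), (t g).esymm a.1 * (c g).esymm a.2 := by
      funext g
      rw [key g k, ← Finset.sum_filter_add_sum_filter_not (antidiagonal k) (fun a => a ≠ (0, k))
        (fun a => (t g).esymm a.1 * (c g).esymm a.2)]
      have h2 : (antidiagonal k).filter (fun a => ¬ a ≠ (0, k)) = {(0, k)} := by
        ext a
        rw [Finset.mem_filter, Finset.mem_singleton, not_not, Finset.mem_antidiagonal]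
        constructor
        · exact fun h => h.2
        · rintro rfl
          exact ⟨zero_add k, rfl⟩
      rw [h2, Finset.sum_singleton, esymm_zero', one_mul, add_sub_cancel_left]
    rw [h1]
    refine Characters.Brauer.isGeneralizedCharacter_sub (Characters.Brauer.isGeneralizedCharacter_of_isCharacter (hs' k)) ?_
    refine isGeneralizedCharacter_sum _ fun a ha => ?_
    rw [Finset.mem_filter, Finset.mem_antidiagonal] at ha
    refine Characters.Brauer.isGeneralizedCharacter_mul (Characters.Brauer.isGeneralizedCharacter_of_isCharacter (ht' a.1)) (ih a.2 ?_)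
    by_contra h
    apply ha.2
    ext
    · show a.1 = 0
      omega
    · show a.2 = k
      omega

end Cfsg.Agent.H501.GLn
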