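import Mathlib.RingTheory.MvPolynomial.Symmetric.NewtonIdentities
import Mathlib.RingTheory.Polynomial.Vieta
import Mathlib.Data.Complex.Basic
set_option linter.all false

/-!
# Newton's identities for multisets of complex numbers
-/

set_option autoImplicit false

open Finset

namespace Cfsg.Agent.H501.GLn

/-- the power sums of a multiset -/
noncomputable def ps (s : Multiset ℂ) (i : ℕ) : ℂ := (s.map fun y => y ^ i).sum

theorem ps_add (s t : Multiset ℂ) (i : ℕ) : ps (s + t) i = ps s i + ps t i := by
  rw [ps, Multiset.map_add, Multiset.sum_add]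
  rfl

theorem exists_fn {α : Type*} (s : Multiset α) : ∃ (n : ℕ) (f : Fin n → α), s = Finset.univ.val.map f := by
  obtain ⟨l, rfl⟩ := Quot.exists_rep s
  refine ⟨l.length, l.get, ?_⟩
  have h1 : (Finset.univ : Finset (Fin l.length)).val = (List.finRange l.length : Multiset (Fin l.length)) := rfl
  rw [h1, Multiset.map_coe, List.map_get_finRange]
  rfl

/-- Newton -/
theorem newton (s : Multiset ℂ) (k : ℕ) :
    (k : ℂ) * s.esymm k = (-1) ^ (k + 1) * ∑ a ∈ antidiagonal k with a.1 < k,
      (-1) ^ a.1 * s.esymm a.1 * ps s a.2 := by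
  obtain ⟨n, f, rfl⟩ := exists_fn s
  have h1 := congrArg (MvPolynomial.aeval f) (MvPolynomial.mul_esymm_eq_sum (Fin n) ℂ k)
  simp only [map_mul, map_natCast, map_pow, map_neg, map_one, map_sum,
    MvPolynomial.aeval_esymm_eq_multiset_esymm, MvPolynomial.psum, MvPolynomial.aeval_X] at h1
  rw [h1]
  congr 1
  refine Finset.sum_congr rfl fun a _ => ?_
  rw [ps, Multiset.map_map]
  rfl

theorem esymm_zero' (s : Multiset ℂ) : s.esymm 0 = 1 := by
  simp [Multiset.esymm]

/-- equal power sums give equal elementary symmetric functions -/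
theorem esymm_eq_of_ps {s t : Multiset ℂ} (h : ∀ i, 1 ≤ i → ps s i = ps t i) (k : ℕ) :
    s.esymm k = t.esymm k := by
  induction k using Nat.strong_induction_on with
  | _ k ih =>
    rcases Nat.eq_zero_or_pos k with rfl | hk
    · rw [esymm_zero', esymm_zero']
    · have hk0 : (k : ℂ) ≠ 0 := Nat.cast_ne_zero.2 hk.ne'
      apply mul_left_cancel₀ hk0
      rw [newton, newton]
      congr 1
      refine Finset.sum_congr rfl fun a ha => ?_
      rw [Finset.mem_filter, Finset.mem_antidiagonal] at ha
      rw [ih a.1 ha.2, h a.2 (by omega)]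

theorem esymm_cons (a : ℂ) (s : Multiset ℂ) (k : ℕ) :
    (a ::ₘ s).esymm (k + 1) = s.esymm (k + 1) + a * s.esymm k := by
  rw [Multiset.esymm, Multiset.powersetCard_cons, Multiset.map_add, Multiset.sum_add, Multiset.map_map]
  congr 1
  rw [Multiset.esymm, ← Multiset.sum_map_mul_left]
  congr 1
  refine Multiset.map_congr rfl fun t _ => ?_
  rw [Function.comp_apply, Multiset.prod_cons]

/-- elementary symmetric functions of a union -/
theorem esymm_add (s t : Multiset ℂ) (k : ℕ) :
    (s + t).esymm k = ∑ a ∈ antidiagonal k, s.esymm a.1 * t.esymm a.2 := by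
  induction s using Multiset.induction_on generalizing k with
  | empty =>
    rw [zero_add, Finset.sum_eq_single (0, k)]
    · rw [esymm_zero', one_mul]
    · rintro ⟨i, j⟩ hij hne
      rw [Finset.mem_antidiagonal] at hij
      have hi : i ≠ 0 := by
        rintro rfl
        apply hne
        rw [← hij, zero_add]
      obtain ⟨i', rfl⟩ := Nat.exists_eq_succ_of_ne_zero hi
      have : (0 : Multiset ℂ).esymm (i' + 1) = 0 := by
        rw [Multiset.esymm, Multiset.powersetCard_eq_empty]
        · rfl
        · simp
      show (0 : Multiset ℂ).esymm (i' + 1) * _ = 0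
      rw [this, zero_mul]
    · intro h
      exact absurd (Finset.mem_antidiagonal.2 (zero_add k)) h
  | cons a s ih =>
    rw [Multiset.cons_add]
    rcases k with _ | k
    · rw [esymm_zero', Finset.Nat.antidiagonal_zero, Finset.sum_singleton, esymm_zero', esymm_zero', mul_one]
    · rw [esymm_cons, ih, ih, Finset.Nat.sum_antidiagonal_succ, Finset.Nat.sum_antidiagonal_succ,
        esymm_zero', esymm_zero', Finset.mul_sum, add_assoc, ← Finset.sum_add_distrib]
      congr 1
      refine Finset.sum_congr rfl fun b _ => ?_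
      rw [esymm_cons]
      ring

end Cfsg.Agent.H501.GLn
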